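import Groth.Agent.NodeNZD7.Deriv
import Groth.Agent.CplFib6.CplFinite
import Groth.Agent.S0544

/-!
# A formal node is not regular at a prime over a prime containing the thickness
-/

set_option autoImplicit false
set_option linter.style.haveILetI false

universe u

namespace Groth.Agent.NodeNZD7

open IsLocalRing

set_option maxHeartbeats 600000 in
/-- A quotient of a complete local ring killing an element which cuts it down to three generators is finite. -/
theorem finite_quotient {R C : Type u} [CommRing R] [IsLocalRing R] [IsAdicComplete (maximalIdeal R) R]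
    [CommRing C] [IsLocalRing C] [IsNoetherianRing C] (j : R →+* C)
    (hjm : ∀ r ∈ maximalIdeal R, j r ∈ maximalIdeal C) (x y e : C)
    (hspan : ∀ g, ∃ c0 c1 c2 : R, g - (j c0 + x * j c1 + y * j c2) ∈ (maximalIdeal R).map j ⊔ Ideal.span {e})
    (J' : Ideal C) (hJ'm : J' ≤ maximalIdeal C) (hzJ : e ∈ J') :
    letI := ((Ideal.Quotient.mk J').comp j).toAlgebra
    Module.Finite R (C ⧸ J') := by
  letI : Algebra R (C ⧸ J') := ((Ideal.Quotient.mk J').comp j).toAlgebra
  haveI : Nontrivial (C ⧸ J') :=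
    Ideal.Quotient.nontrivial_iff.2 fun h' => (maximalIdeal.isMaximal _).ne_top (top_le_iff.1 (h' ▸ hJ'm))
  haveI : IsLocalRing (C ⧸ J') := IsLocalRing.of_surjective' _ Ideal.Quotient.mk_surjective
  haveI : IsLocalHom (Ideal.Quotient.mk J') := IsLocalHom.of_surjective _ Ideal.Quotient.mk_surjective
  have hmap : (maximalIdeal R).map (algebraMap R (C ⧸ J')) ≤ maximalIdeal (C ⧸ J') := by
    rw [Ideal.map_le_iff_le_comap]
    intro r hr hu
    exact (IsLocalRing.mem_maximalIdeal _).1 (hjm r hr) (isUnit_of_map_unit (Ideal.Quotient.mk J') (j r) hu)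
  haveI : IsHausdorff (maximalIdeal R) (C ⧸ J') := by
    refine ⟨fun g hg => ?_⟩
    have h1 : g ∈ ⨅ n : ℕ, maximalIdeal (C ⧸ J') ^ n := by
      refine Submodule.mem_iInf _ |>.2 fun n => ?_
      have h2 : g ∈ (maximalIdeal R ^ n • ⊤ : Submodule R (C ⧸ J')) := SModEq.zero.1 (hg n)
      refine Submodule.smul_induction_on h2 (fun r hr d _ => ?_) fun d d' hd hd' => add_mem hd hd'
      rw [Algebra.smul_def]
      refine Ideal.mul_mem_right _ _ (Ideal.pow_right_mono hmap n ?_)
      rw [← Ideal.map_pow]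
      exact Ideal.mem_map_of_mem _ hr
    rwa [Ideal.iInf_pow_eq_bot_of_isLocalRing _ (maximalIdeal.isMaximal _).ne_top, Ideal.mem_bot] at h1
  refine S0544.result R (maximalIdeal R) _ ?_
  let Q := (maximalIdeal R • ⊤ : Submodule R (C ⧸ J'))
  refine Module.Finite.of_surjective (Fintype.linearCombination R
    ![Q.mkQ (Ideal.Quotient.mk J' 1), Q.mkQ (Ideal.Quotient.mk J' x), Q.mkQ (Ideal.Quotient.mk J' y)]) ?_
  intro g
  obtain ⟨g, rfl⟩ := Q.mkQ_surjective g
  obtain ⟨g, rfl⟩ := Ideal.Quotient.mk_surjective g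
  obtain ⟨c0, c1, c2, hc⟩ := hspan g
  refine ⟨![c0, c1, c2], ?_⟩
  simp only [Fintype.linearCombination_apply, Fin.sum_univ_three, Matrix.cons_val]
  rw [← map_smul Q.mkQ, ← map_smul Q.mkQ, ← map_smul Q.mkQ, ← map_add, ← map_add, eq_comm, Submodule.mkQ_apply,
    Submodule.mkQ_apply, Submodule.Quotient.eq]
  obtain ⟨g1, hg1, g2, hg2, hg⟩ := Submodule.mem_sup.1 hc
  simp only [Algebra.smul_def, RingHom.algebraMap_toAlgebra, RingHom.comp_apply, ← map_mul, ← map_add,
    ← map_sub]
  rw [show g - (j c0 * 1 + j c1 * x + j c2 * y) = g1 + g2 by rw [hg]; ring]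
  have hg2' : g2 ∈ J' := by
    obtain ⟨s, rfl⟩ := Ideal.mem_span_singleton'.1 hg2
    exact Ideal.mul_mem_left _ _ hzJ
  rw [map_add, Ideal.Quotient.eq_zero_iff_mem.2 hg2', add_zero]
  show _ ∈ (maximalIdeal R • ⊤ : Submodule R (C ⧸ J'))
  rw [Ideal.smul_top_eq_map,
    Submodule.restrictScalars_mem, RingHom.algebraMap_toAlgebra, ← Ideal.map_map]
  exact Ideal.mem_map_of_mem _ hg1

/-- A prime over a prime of the base is minimal over an ideal with finite quotient. -/
theorem minimal_of_finite {R A : Type u} [CommRing R] [CommRing A] (φ : R →+* A) (p : Ideal R)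
    (q : Ideal A) [q.IsPrime] (hqc : q.comap φ = p) (J : Ideal A) (hpJ : p.map φ ≤ J) (hJq : J ≤ q)
    (hfin : ((Ideal.Quotient.mk J).comp φ).Finite) : q ∈ J.minimalPrimes := by
  letI : Algebra R (A ⧸ J) := ((Ideal.Quotient.mk J).comp φ).toAlgebra
  haveI : Module.Finite R (A ⧸ J) := hfin
  refine ⟨⟨inferInstance, hJq⟩, fun q' hq' hle => ?_⟩
  haveI := hq'.1
  have hc' : q'.comap φ = p :=
    le_antisymm ((Ideal.comap_mono hle).trans hqc.le)
      (Ideal.map_le_iff_le_comap.1 (hpJ.trans hq'.2))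
  by_contra hn
  obtain ⟨w, hwq, hwq'⟩ := SetLike.not_le_iff_exists.1 hn
  haveI : (q'.map (Ideal.Quotient.mk J)).IsPrime :=
    Ideal.map_isPrime_of_surjective Ideal.Quotient.mk_surjective (by rw [Ideal.mk_ker]; exact hq'.2)
  haveI : Algebra.IsIntegral R (A ⧸ J) := Algebra.IsIntegral.of_finite R _
  have h1 : q'.map (Ideal.Quotient.mk J) ≤ q.map (Ideal.Quotient.mk J) := Ideal.map_mono hle
  have h2 := Ideal.comap_lt_comap_of_integral_mem_sdiff h1
    (x := Ideal.Quotient.mk J w) ⟨Ideal.mem_map_of_mem _ hwq, fun h' => hwq' ?_⟩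
    (Algebra.IsIntegral.isIntegral (R := R) (Ideal.Quotient.mk J w))
  · rw [RingHom.algebraMap_toAlgebra, ← Ideal.comap_comap, ← Ideal.comap_comap,
      Ideal.comap_map_of_surjective _ Ideal.Quotient.mk_surjective,
      Ideal.comap_map_of_surjective _ Ideal.Quotient.mk_surjective, ← RingHom.ker_eq_comap_bot,
      Ideal.mk_ker, sup_eq_left.2 hq'.2, sup_eq_left.2 hJq, hc', hqc] at h2
    exact h2.ne rfl
  · have h' : w ∈ (q'.map (Ideal.Quotient.mk J)).comap (Ideal.Quotient.mk J) := h'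
    rw [Ideal.comap_map_of_surjective _ Ideal.Quotient.mk_surjective,
      ← RingHom.ker_eq_comap_bot, Ideal.mk_ker, sup_eq_left.2 hq'.2] at h'
    exact h'

/-- If the fibre at a prime minimal over an element and a prime of the base is regular, all elements of
the prime are proportional modulo the prime of the base. -/
theorem exists_line {R A B : Type u} [CommRing R] [CommRing A] [IsNoetherianRing A] [CommRing B]
    [IsLocalRing B] [Algebra A B] (S : Submonoid A) [IsLocalization S B] (φ : R →+* A) (p : Ideal R)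
    (q : Ideal A) (z : A) (hzq : z ∈ q) (hpJ : p.map φ ≤ q)
    (hmin : q ∈ (p.map φ ⊔ Ideal.span {z}).minimalPrimes)
    (hBq : (maximalIdeal B).comap (algebraMap A B) = q)
    (hreg : IsRegularLocalRing (B ⧸ p.map ((algebraMap A B).comp φ))) :
    ∃ w ∈ q, ∀ v ∈ q, ∃ s b : A, s ∉ q ∧ s * v - b * w ∈ p.map φ := by
  haveI := hreg
  haveI : IsNoetherianRing B := IsLocalization.isNoetherianRing S B inferInstance
  let P := p.map ((algebraMap A B).comp φ)
  let π := Ideal.Quotient.mk P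
  have hmB : ∀ s : A, IsUnit (algebraMap A B s) ↔ s ∉ q := fun s => by
    rw [← hBq, Ideal.mem_comap, IsLocalRing.notMem_maximalIdeal]
  have hP : P = (p.map φ).map (algebraMap A B) := (Ideal.map_map φ (algebraMap A B)).symm
  have hPm : P ≤ maximalIdeal B := by
    rw [hP, Ideal.map_le_iff_le_comap, hBq]
    exact hpJ
  haveI : IsLocalHom π := IsLocalHom.of_surjective π Ideal.Quotient.mk_surjective
  have hmax' : maximalIdeal (B ⧸ P) ∈ (Ideal.span {π (algebraMap A B z)}).minimalPrimes := by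
    refine ⟨⟨inferInstance, Ideal.span_le.2 (Set.singleton_subset_iff.2 ?_)⟩, fun Q hQ _ => ?_⟩
    · intro hu
      exact (hmB z).1 ((isUnit_map_iff π _).1 hu) hzq
    · haveI := hQ.1
      have hQJ : p.map φ ⊔ Ideal.span {z} ≤ (Q.comap π).comap (algebraMap A B) := by
        refine sup_le (fun g hg => ?_) (Ideal.span_le.2 (Set.singleton_subset_iff.2 ?_))
        · show π (algebraMap A B g) ∈ Q
          rw [Ideal.Quotient.eq_zero_iff_mem.2 (hP ▸ Ideal.mem_map_of_mem _ hg)]
          exact zero_mem _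
        · exact hQ.2 (Ideal.subset_span rfl)
      have hle : (Q.comap π).comap (algebraMap A B) ≤ q :=
        hBq ▸ Ideal.comap_mono (le_maximalIdeal Ideal.IsPrime.ne_top')
      have heq : q ≤ (Q.comap π).comap (algebraMap A B) := hmin.2 ⟨inferInstance, hQJ⟩ hle
      intro g hg
      obtain ⟨g, rfl⟩ := Ideal.Quotient.mk_surjective g
      obtain ⟨⟨w, s⟩, hws⟩ := IsLocalization.surj S g
      have hs : IsUnit (algebraMap A B s) := IsLocalization.map_units B s
      have hwm : w ∈ q := by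
        rw [← hBq, Ideal.mem_comap, ← hws]
        exact Ideal.mul_mem_right _ _ fun hu => (IsLocalRing.mem_maximalIdeal _).1 hg (hu.map π)
      have h1 : π (algebraMap A B w) ∈ Q := heq hwm
      rw [← hws, map_mul] at h1
      exact (Ideal.mul_unit_mem_iff_mem _ (hs.map π)).1 h1
  have hfr : (maximalIdeal (B ⧸ P)).spanFinrank ≤ 1 := by
    have h1 := Ideal.height_le_one_of_isPrincipal_of_mem_minimalPrimes _ _ hmax'
    have h2 := IsRegularLocalRing.spanFinrank_maximalIdeal (R := B ⧸ P)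
    rw [← IsLocalRing.maximalIdeal_height_eq_ringKrullDim] at h2
    have h3 : (((maximalIdeal (B ⧸ P)).spanFinrank : ℕ∞) : WithBot ℕ∞) ≤ ((1 : ℕ∞) : WithBot ℕ∞) := by
      rw [show (((maximalIdeal (B ⧸ P)).spanFinrank : ℕ∞) : WithBot ℕ∞) =
        (((maximalIdeal (B ⧸ P)).spanFinrank : ℕ) : WithBot ℕ∞) from rfl, h2]
      exact WithBot.coe_le_coe.2 h1
    exact_mod_cast WithBot.coe_le_coe.1 h3
  have hgen : ∃ g, maximalIdeal (B ⧸ P) = Ideal.span {g} := by
    rcases Nat.le_one_iff_eq_zero_or_eq_one.1 hfr with h0 | h1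
    · exact ⟨0, by rw [Ideal.span_singleton_eq_bot.2 rfl]
                   exact (Submodule.spanFinrank_eq_zero_iff_eq_bot (IsNoetherian.noetherian _)).1 h0⟩
    · obtain ⟨g, hg⟩ := ((Submodule.spanFinrank_eq_one_iff _).1 h1).1
      exact ⟨g, hg⟩
  obtain ⟨g, hg⟩ := hgen
  obtain ⟨g, rfl⟩ := Ideal.Quotient.mk_surjective g
  obtain ⟨⟨w, s⟩, hws⟩ := IsLocalization.surj S g
  have hgw : maximalIdeal (B ⧸ P) = Ideal.span {π (algebraMap A B w)} := by
    rw [hg, ← hws, map_mul]
    exact (Ideal.span_singleton_mul_right_unit ((IsLocalization.map_units B s).map π) _).symm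
  have hwq : w ∈ q := by
    rw [← hBq, Ideal.mem_comap]
    intro hu
    have h1 : π (algebraMap A B w) ∈ maximalIdeal (B ⧸ P) := hgw ▸ Ideal.subset_span rfl
    exact (IsLocalRing.mem_maximalIdeal _).1 h1 (hu.map π)
  have hrel : ∀ v ∈ q, ∃ s b : A, s ∉ q ∧ s * v - b * w ∈ p.map φ := by
    intro v hv
    have h1 : π (algebraMap A B v) ∈ maximalIdeal (B ⧸ P) := fun hu =>
      (hmB v).1 ((isUnit_map_iff π _).1 hu) hv
    rw [hgw] at h1
    obtain ⟨c, hc⟩ := Ideal.mem_span_singleton'.1 h1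
    obtain ⟨c, rfl⟩ := Ideal.Quotient.mk_surjective c
    obtain ⟨⟨b, s⟩, hbs⟩ := IsLocalization.surj S c
    have h2 : algebraMap A B (s * v - b * w) ∈ (p.map φ).map (algebraMap A B) := by
      rw [← hP, map_sub, map_mul, map_mul, ← hbs,
        show algebraMap A B s * algebraMap A B v - c * algebraMap A B s * algebraMap A B w =
          algebraMap A B s * (algebraMap A B v - c * algebraMap A B w) by ring]
      exact Ideal.mul_mem_left _ _ (Ideal.Quotient.eq.1 (by rw [map_mul]; exact hc.symm))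
    obtain ⟨s', hs', h3⟩ := (IsLocalization.algebraMap_mem_map_algebraMap_iff S B _ _).1 h2
    refine ⟨s' * s, s' * b, (hmB _).1 ?_, ?_⟩
    · rw [map_mul]
      exact (IsLocalization.map_units B ⟨s', hs'⟩).mul (IsLocalization.map_units B s)
    · convert h3 using 1
      ring
  exact ⟨w, hwq, hrel⟩

set_option maxHeartbeats 1000000 in
/-- At some prime over a prime containing the thickness the fibre of a formal node is not regular. -/
theorem exists_prime {R A : Type u} [CommRing R] [IsNoetherianRing R] [IsLocalRing R]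
    [IsAdicComplete (maximalIdeal R) R] [CommRing A] [IsLocalRing A] [IsNoetherianRing A] (φ : R →+* A)
    (a : R) (h : DualGr.IsThickNode φ a) (p : Ideal R) [p.IsPrime] (hap : a ∈ p) :
    ∃ q : Ideal A, q.IsPrime ∧ q.comap φ = p ∧
      ∀ (B : Type u) [CommRing B] [IsLocalRing B] [Algebra A B] (S : Submonoid A) [IsLocalization S B],
        (maximalIdeal B).comap (algebraMap A B) = q →
          ¬ IsRegularLocalRing (B ⧸ p.map ((algebraMap A B).comp φ)) := by
  classical
  obtain ⟨χ, ℓ, x, y, hχφ, hℓφ, hleib, hχx, hχy, h0x, h1x, h0y, h1y, hxy, hdec⟩ :=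
    exists_deriv φ a h p hap
  have hpm : p ≤ maximalIdeal R := le_maximalIdeal Ideal.IsPrime.ne_top'
  haveI : IsLocalRing (R ⧸ p) := IsLocalRing.of_surjective' _ Ideal.Quotient.mk_surjective
  haveI : IsLocalRing (Curv2.cpl A) := FlatLoc6.isLocalRing_cpl A
  haveI : IsNoetherianRing (Curv2.cpl A) := FlatLoc6.isNoetherianRing_cpl A
  haveI : Module.FaithfullyFlat A (Curv2.cpl A) := FlatLoc6.faithfullyFlat_cpl A
  have hmax : (maximalIdeal A).map (algebraMap A (Curv2.cpl A)) = maximalIdeal (Curv2.cpl A) :=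
    (AdicCompletion.maximalIdeal_eq_map_of_fg (IsNoetherian.noetherian _)).symm
  let j : R →+* Curv2.cpl A := (algebraMap A (Curv2.cpl A)).comp φ
  have hjm : ∀ r ∈ maximalIdeal R, j r ∈ maximalIdeal (Curv2.cpl A) := fun r hr hu => by
    obtain ⟨χ', ℓ', x', y', hχ', -⟩ := exists_deriv φ a h (maximalIdeal R) (hpm hap)
    have h1 := hu.map χ'
    rw [show χ' (j r) = Ideal.Quotient.mk _ r from hχ' r, Ideal.Quotient.eq_zero_iff_mem.2 hr] at h1
    exact not_isUnit_zero h1
  have hker : RingHom.ker χ ≤ maximalIdeal (Curv2.cpl A) := le_maximalIdeal (RingHom.ker_ne_top χ)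
  have hxm : x ∈ maximalIdeal (Curv2.cpl A) := hker hχx
  have hym : y ∈ maximalIdeal (Curv2.cpl A) := hker hχy
  have hdec' : ∀ z ∈ maximalIdeal (Curv2.cpl A), ∃ t ∈ maximalIdeal R, ∃ u v, z = j t + x * u + y * v := by
    intro z hz
    obtain ⟨t, u, v, rfl⟩ := hdec z
    refine ⟨t, ?_, u, v, rfl⟩
    by_contra hn
    refine (IsLocalRing.mem_maximalIdeal _).1 hz ?_
    have hu : IsUnit (j t) := (IsLocalRing.notMem_maximalIdeal.1 hn).map j
    by_contra hn'
    have hxy' : x * u + y * v ∈ maximalIdeal (Curv2.cpl A) :=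
      add_mem (Ideal.mul_mem_right _ _ hxm) (Ideal.mul_mem_right _ _ hym)
    have h2 := (Ideal.sub_mem _ ((IsLocalRing.mem_maximalIdeal _).2 hn') hxy')
    rw [show algebraMap A _ (φ t) + x * u + y * v - (x * u + y * v) = j t by simp [j]] at h2
    exact (IsLocalRing.mem_maximalIdeal _).1 h2 hu
  have hχm : ∀ z ∈ maximalIdeal (Curv2.cpl A), χ z ∈ maximalIdeal (R ⧸ p) := by
    intro z hz
    obtain ⟨t, ht, u, v, rfl⟩ := hdec' z hz
    rw [map_add, map_add, map_mul, map_mul, hχx, hχy, zero_mul, zero_mul, add_zero, add_zero,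
      show χ (j t) = _ from hχφ t]
    haveI := IsLocalHom.of_surjective (Ideal.Quotient.mk p) Ideal.Quotient.mk_surjective
    exact fun hu => (IsLocalRing.mem_maximalIdeal _).1 ht (isUnit_of_map_unit (Ideal.Quotient.mk p) t hu)
  have hℓm : ∀ i, ∀ d ∈ maximalIdeal (Curv2.cpl A) ^ 2, ℓ i d ∈ maximalIdeal (R ⧸ p) := by
    intro i d hd
    rw [pow_two] at hd
    refine Submodule.mul_induction_on hd (fun z hz w hw => ?_) (fun z w hz hw => ?_)
    · rw [hleib]
      exact add_mem (Ideal.mul_mem_right _ _ (hχm z hz)) (Ideal.mul_mem_left _ _ (hχm w hw))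
    · rw [map_add]; exact add_mem hz hw
  let q : Ideal A := RingHom.ker (χ.comp (algebraMap A (Curv2.cpl A)))
  have hqp : q.IsPrime := RingHom.ker_isPrime _
  have hqc : q.comap φ = p := by
    ext r
    show χ (algebraMap A _ (φ r)) = 0 ↔ r ∈ p
    rw [hχφ, Ideal.Quotient.eq_zero_iff_mem]
  -- approximation by elements of `q`
  have happ : ∀ z ∈ maximalIdeal (Curv2.cpl A), χ z = 0 → ∃ w ∈ q, ∃ t ∈ maximalIdeal R,
      z - algebraMap A _ w - j t ∈ maximalIdeal (Curv2.cpl A) ^ 2 := by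
    intro z hz hχz
    obtain ⟨w, hw⟩ := CplFib6.exists_sub_mem_pow A 2 z
    rw [Ideal.map_pow, hmax] at hw
    obtain ⟨t, ht⟩ := Ideal.Quotient.mk_surjective (I := p) (χ (algebraMap A (Curv2.cpl A) w))
    refine ⟨w - φ t, ?_, t, ?_, ?_⟩
    · show χ (algebraMap A _ (w - φ t)) = 0
      rw [map_sub, map_sub, hχφ, ht, sub_self]
    · by_contra hn
      refine (IsLocalRing.mem_maximalIdeal _).1 (hχm _ (Ideal.pow_le_self two_ne_zero hw)) ?_
      rw [map_sub, hχz, zero_sub, IsUnit.neg_iff, ← ht]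
      exact (IsLocalRing.notMem_maximalIdeal.1 hn).map _
    · rw [map_sub, show algebraMap A (Curv2.cpl A) (φ t) = j t from rfl]
      convert hw using 1
      ring
  obtain ⟨w0, hw0, t0, -, hd0⟩ := happ x hxm hχx
  obtain ⟨w1, hw1, t1, -, hd1⟩ := happ y hym hχy
  have hℓw : ∀ (z : Curv2.cpl A) (w : A) (t : R),
      z - algebraMap A _ w - j t ∈ maximalIdeal (Curv2.cpl A) ^ 2 →
      ∀ i, residue _ (ℓ i (algebraMap A _ w)) = residue _ (ℓ i z) := by
    intro z w t hd i
    have := (residue_eq_zero_iff _).2 (hℓm i _ hd)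
    simp only [map_sub, show ℓ i (j t) = 0 from hℓφ i t, map_zero, sub_zero, sub_eq_zero] at this
    exact this.symm
  have hdet : ℓ 0 (algebraMap A _ w0) * ℓ 1 (algebraMap A _ w1) -
      ℓ 1 (algebraMap A _ w0) * ℓ 0 (algebraMap A _ w1) ≠ 0 := fun h0 => by
    have h1 := congrArg (residue (R ⧸ p)) h0
    rw [map_sub, map_mul, map_mul, hℓw x w0 t0 hd0, hℓw y w1 t1 hd1, hℓw x w0 t0 hd0, hℓw y w1 t1 hd1,
      h0x, h1x, h0y, h1y, map_one, map_zero, one_mul, zero_mul, sub_zero] at h1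
    exact one_ne_zero h1
  -- an element cutting the fibre down to a finite algebra
  obtain ⟨z, hzq, t, ht, hd⟩ := happ (x + y) (add_mem hxm hym) (by rw [map_add, hχx, hχy, add_zero])
  let m := maximalIdeal (Curv2.cpl A)
  let M : Ideal (Curv2.cpl A) := (maximalIdeal R).map j ⊔ Ideal.span {algebraMap A _ z}
  have hjM : ∀ r ∈ maximalIdeal R, j r ∈ M := fun r hr => Ideal.mem_sup_left (Ideal.mem_map_of_mem j hr)
  have hzM : algebraMap A _ z ∈ M := Ideal.mem_sup_right (Ideal.subset_span rfl)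
  have hsq : m ^ 2 ≤ M := by
    refine Submodule.le_of_le_smul_of_le_jacobson_bot (I := m) (IsNoetherian.noetherian _)
      (IsLocalRing.jacobson_eq_maximalIdeal _ bot_ne_top).ge ?_
    rw [smul_eq_mul]
    have hP : ∀ g, (g = x ∨ g = y) → ∀ s, (s = x ∨ s = y) → g * s ∈ M ⊔ m * m ^ 2 := by
      have hxy' : x * y ∈ M := hxy ▸ hjM a (hpm hap)
      have hs : ∀ g ∈ m, g * (x + y) ∈ M ⊔ m * m ^ 2 := fun g hg => by
        rw [show g * (x + y) = g * (algebraMap A _ z + j t) +
          g * (x + y - algebraMap A _ z - j t) by ring]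
        exact add_mem (Ideal.mem_sup_left (Ideal.mul_mem_left _ _ (add_mem hzM (hjM t ht))))
          (Ideal.mem_sup_right (Ideal.mul_mem_mul hg hd))
      intro g hg s hs'
      rcases hg with hg | hg <;> rcases hs' with h' | h' <;> rw [hg, h']
      · rw [show x * x = x * (x + y) - x * y by ring]
        exact sub_mem (hs x hxm) (Ideal.mem_sup_left hxy')
      · exact Ideal.mem_sup_left hxy'
      · exact Ideal.mem_sup_left (by rwa [mul_comm])
      · rw [show y * y = y * (x + y) - x * y by ring]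
        exact sub_mem (hs y hym) (Ideal.mem_sup_left hxy')
    rw [pow_two, Ideal.mul_le]
    intro g hg s hs
    obtain ⟨r, hr, u, v, rfl⟩ := hdec' g hg
    obtain ⟨r', hr', u', v', rfl⟩ := hdec' s hs
    rw [← pow_two]
    rw [show (j r + x * u + y * v) * (j r' + x * u' + y * v') =
      j r * (j r' + x * u' + y * v') + (x * u + y * v) * j r' + (x * x * (u * u') + x * y * (u * v')
        + y * x * (v * u') + y * y * (v * v')) by ring]
    exact add_mem (add_mem (Ideal.mem_sup_left (Ideal.mul_mem_right _ _ (hjM r hr)))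
      (Ideal.mem_sup_left (Ideal.mul_mem_left _ _ (hjM r' hr'))))
      (add_mem (add_mem (add_mem (Ideal.mul_mem_right _ _ (hP x (.inl rfl) x (.inl rfl)))
        (Ideal.mul_mem_right _ _ (hP x (.inl rfl) y (.inr rfl))))
        (Ideal.mul_mem_right _ _ (hP y (.inr rfl) x (.inl rfl))))
        (Ideal.mul_mem_right _ _ (hP y (.inr rfl) y (.inr rfl))))
  have hspan : ∀ g, ∃ c0 c1 c2 : R, g - (j c0 + x * j c1 + y * j c2) ∈ M := by
    intro g
    obtain ⟨c0, u, v, rfl⟩ := hdec g
    obtain ⟨c1, u0, u1, rfl⟩ := hdec u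
    obtain ⟨c2, v0, v1, rfl⟩ := hdec v
    refine ⟨c0, c1, c2, hsq ?_⟩
    simp only [j, RingHom.comp_apply]
    rw [show algebraMap A _ (φ c0) + x * (algebraMap A _ (φ c1) + x * u0 + y * u1) +
      y * (algebraMap A _ (φ c2) + x * v0 + y * v1) -
      (algebraMap A _ (φ c0) + x * algebraMap A _ (φ c1) + y * algebraMap A _ (φ c2)) =
      x * x * u0 + x * y * u1 + y * x * v0 + y * y * v1 by ring, pow_two]
    exact add_mem (add_mem (add_mem (Ideal.mul_mem_right _ _ (Ideal.mul_mem_mul hxm hxm))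
      (Ideal.mul_mem_right _ _ (Ideal.mul_mem_mul hxm hym)))
      (Ideal.mul_mem_right _ _ (Ideal.mul_mem_mul hym hxm)))
      (Ideal.mul_mem_right _ _ (Ideal.mul_mem_mul hym hym))
  let J : Ideal A := p.map φ ⊔ Ideal.span {z}
  have hJq : J ≤ q := sup_le (Ideal.map_le_iff_le_comap.2 hqc.ge) (Ideal.span_le.2 (by simpa using hzq))
  let J' : Ideal (Curv2.cpl A) := J.map (algebraMap A (Curv2.cpl A))
  letI : Algebra R (Curv2.cpl A ⧸ J') := ((Ideal.Quotient.mk J').comp j).toAlgebra
  haveI : Module.Finite R (Curv2.cpl A ⧸ J') := by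
    refine finite_quotient j hjm x y (algebraMap A _ z) hspan J' ?_
      (Ideal.mem_map_of_mem _ (Ideal.mem_sup_right (Ideal.subset_span rfl)))
    exact Ideal.map_le_iff_le_comap.2 (hJq.trans fun w hw => hker hw)
  letI : Algebra R (A ⧸ J) := ((Ideal.Quotient.mk J).comp φ).toAlgebra
  haveI : Module.Finite R (A ⧸ J) := by
    let F : (A ⧸ J) →ₐ[R] (Curv2.cpl A ⧸ J') :=
      { Ideal.quotientMap J' (algebraMap A (Curv2.cpl A)) Ideal.le_comap_map with
        commutes' := fun r => rfl }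
    refine Module.Finite.of_injective F.toLinearMap ?_
    refine (injective_iff_map_eq_zero F).2 fun g hg => ?_
    obtain ⟨g, rfl⟩ := Ideal.Quotient.mk_surjective g
    have h1 : algebraMap A (Curv2.cpl A) g ∈ J' := Ideal.Quotient.eq_zero_iff_mem.1 hg
    exact Ideal.Quotient.eq_zero_iff_mem.2
      ((Ideal.comap_map_eq_self_of_faithfullyFlat (B := Curv2.cpl A) J).le h1)
  have hmin : q ∈ J.minimalPrimes := by
    haveI := hqp
    exact minimal_of_finite φ p q hqc J le_sup_left hJq ‹Module.Finite R (A ⧸ J)›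
  refine ⟨q, hqp, hqc, fun B _ _ _ S _ hBq hreg => ?_⟩
  obtain ⟨w, hwq, hrel⟩ := exists_line S φ p q z hzq (le_sup_left.trans hJq) hmin hBq hreg
  have hzero : ∀ g ∈ p.map φ, χ (algebraMap A _ g) = 0 ∧ ∀ i, ℓ i (algebraMap A _ g) = 0 := by
    intro g hg
    induction hg using Submodule.span_induction with
    | mem g hg =>
      obtain ⟨r, hr, rfl⟩ := hg
      exact ⟨(hχφ r).trans (Ideal.Quotient.eq_zero_iff_mem.2 hr), fun i => hℓφ i r⟩
    | zero => simp
    | add g g' _ _ hg hg' =>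
      exact ⟨by rw [map_add, map_add, hg.1, hg'.1, add_zero],
        fun i => by rw [map_add, map_add, hg.2, hg'.2, add_zero]⟩
    | smul b g _ hg =>
      refine ⟨by rw [smul_eq_mul, map_mul, map_mul, hg.1, mul_zero], fun i => ?_⟩
      rw [smul_eq_mul, map_mul, hleib, hg.1, hg.2 i, mul_zero, mul_zero, add_zero]
  let L := fun i v => ℓ i (algebraMap A (Curv2.cpl A) v)
  have hline : ∀ v ∈ q, ∃ σ β : R ⧸ p, σ ≠ 0 ∧ ∀ i, σ * L i v = β * L i w := by
    intro v hv
    obtain ⟨s, b, hs, h1⟩ := hrel v hv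
    refine ⟨χ (algebraMap A _ s), χ (algebraMap A _ b), fun h' => hs h', fun i => ?_⟩
    have h2 := (hzero _ h1).2 i
    rw [map_sub, map_mul, map_mul, map_sub, hleib, hleib, show χ (algebraMap A _ v) = 0 from hv,
      show χ (algebraMap A _ w) = 0 from hwq, mul_zero, mul_zero, add_zero, add_zero, sub_eq_zero] at h2
    exact h2
  obtain ⟨σ0, β0, hσ0, h0⟩ := hline w0 hw0
  obtain ⟨σ1, β1, hσ1, h1⟩ := hline w1 hw1
  refine mul_ne_zero (mul_ne_zero hσ0 hσ1) hdet ?_
  show σ0 * σ1 * (L 0 w0 * L 1 w1 - L 1 w0 * L 0 w1) = 0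
  linear_combination (σ1 * L 1 w1) * h0 0 + (β0 * L 0 w) * h1 1 - (σ1 * L 0 w1) * h0 1 - (β0 * L 1 w) * h1 0

end Groth.Agent.NodeNZD7
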