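import Groth.Agent.S17737

/-!
# The constant and the linear coefficients of a formal node modulo a prime containing the thickness
-/

set_option autoImplicit false

universe u

namespace Groth.Agent.NodeNZD7

open MvPowerSeries IsLocalRing S17737

theorem bijective_algebraMap_cpl (R : Type u) [CommRing R] [IsLocalRing R] [IsAdicComplete (maximalIdeal R) R] :
    Function.Bijective (algebraMap R (Curv2.cpl R)) := by
  have h := AdicCompletion.of_bijective (maximalIdeal R) R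
  have : (algebraMap R (Curv2.cpl R) : R → Curv2.cpl R) = AdicCompletion.of (maximalIdeal R) R := by
    funext r
    exact congrArg (fun g => g r) (rfl : (algebraMap R (Curv2.cpl R) : R → _) = AdicCompletion.of (maximalIdeal R) R)
  rw [this]
  exact h

/-- The derivations of a formal node at a prime of the base containing the thickness. -/
theorem exists_deriv {R A : Type u} [CommRing R] [IsLocalRing R]
    [IsAdicComplete (maximalIdeal R) R] [CommRing A] [IsLocalRing A] (φ : R →+* A) (a : R)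
    (h : DualGr.IsThickNode φ a) (p : Ideal R) (hap : a ∈ p) :
    ∃ (χ : Curv2.cpl A →+* R ⧸ p) (ℓ : Fin 2 → Curv2.cpl A →+ R ⧸ p) (x y : Curv2.cpl A),
      (∀ r, χ (algebraMap A _ (φ r)) = Ideal.Quotient.mk p r) ∧
      (∀ i r, ℓ i (algebraMap A _ (φ r)) = 0) ∧
      (∀ i z w, ℓ i (z * w) = χ z * ℓ i w + ℓ i z * χ w) ∧
      χ x = 0 ∧ χ y = 0 ∧ ℓ 0 x = 1 ∧ ℓ 1 x = 0 ∧ ℓ 0 y = 0 ∧ ℓ 1 y = 1 ∧
      x * y = algebraMap A _ (φ a) ∧
      ∀ z, ∃ t u v, z = algebraMap A _ (φ t) + x * u + y * v := by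
  classical
  obtain ⟨e, he⟩ := h
  let ρ : Curv2.cpl R ≃+* R := (RingEquiv.ofBijective _ (bijective_algebraMap_cpl R)).symm
  have hρ : ∀ r, ρ (algebraMap R (Curv2.cpl R) r) = r := fun r =>
    RingEquiv.symm_apply_apply (RingEquiv.ofBijective _ (bijective_algebraMap_cpl R)) r
  let ψ : MvPowerSeries (Fin 2) (Curv2.cpl R) →+* MvPowerSeries (Fin 2) (R ⧸ p) :=
    MvPowerSeries.map ((Ideal.Quotient.mk p).comp ρ.toRingHom)
  have hψC : ∀ r, ψ (C (algebraMap R (Curv2.cpl R) r)) = C (Ideal.Quotient.mk p r) := fun r => by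
    simp [ψ, hρ]
  have hψX : ∀ i, ψ (X i) = X i := fun i => by simp [ψ]
  let mkN := Ideal.Quotient.mk (Ideal.span {(X 0 * X 1 - C (algebraMap R (Curv2.cpl R) a) :
    MvPowerSeries (Fin 2) (Curv2.cpl R))})
  have key : ∀ f g, mkN f = mkN g → ∃ H, ψ f = ψ g + H * eqn 0 := fun f g hfg => by
    obtain ⟨H, hH⟩ := Ideal.mem_span_singleton'.1 (Ideal.Quotient.eq.1 hfg)
    refine ⟨ψ H, ?_⟩
    have h1 := congrArg ψ hH
    simp only [map_mul, map_sub, hψX, hψC, Ideal.Quotient.eq_zero_iff_mem.2 hap, map_zero, sub_zero] at h1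
    simp only [eqn, map_zero, sub_zero]
    rw [h1]; ring
  have hk : ∀ f g, mkN f = mkN g →
      constantCoeff (ψ f) = constantCoeff (ψ g) ∧ ∀ i, lin i (ψ f) = lin i (ψ g) := fun f g hfg => by
    obtain ⟨H, hH⟩ := key f g hfg
    refine ⟨?_, fun i => ?_⟩ <;> rw [hH] <;>
      simp [lin_mul, lin_eqn, constantCoeff_eqn]
  choose rep hrep using fun n : DualGr.nodeRing R a => Ideal.Quotient.mk_surjective n
  let χ0 : DualGr.nodeRing R a →+* R ⧸ p := Ideal.Quotient.lift _ ((constantCoeff).comp ψ) fun f hf => by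
    have := (hk f 0 (by rw [map_zero]; exact Ideal.Quotient.eq_zero_iff_mem.2 hf)).1
    simpa using this
  have hχ0 : ∀ f, χ0 (mkN f) = constantCoeff (ψ f) := fun f => rfl
  let ℓ0 : Fin 2 → DualGr.nodeRing R a →+ R ⧸ p := fun i =>
    AddMonoidHom.mk' (fun n => lin i (ψ (rep n))) fun n m => by
      have := (hk (rep (n + m)) (rep n + rep m) (by simp only [mkN, map_add, hrep])).2 i
      rw [this, map_add, map_add]
  have hℓ0 : ∀ i f, ℓ0 i (mkN f) = lin i (ψ f) := fun i f =>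
    (hk (rep (mkN f)) f (hrep _)).2 i
  refine ⟨χ0.comp e.toRingHom, fun i => (ℓ0 i).comp e.toAddMonoidHom,
    e.symm (mkN (X 0)), e.symm (mkN (X 1)), fun r => ?_, fun i r => ?_, fun i z w => ?_,
    ?_, ?_, ?_, ?_, ?_, ?_, ?_, fun z => ?_⟩
  · change χ0 (e _) = _
    rw [he]
    exact (hχ0 _).trans (by rw [hψC, constantCoeff_C])
  · change ℓ0 i (e _) = _
    rw [he]
    exact (hℓ0 i _).trans (by rw [hψC, lin_C])
  · change ℓ0 i (e (z * w)) = χ0 (e z) * ℓ0 i (e w) + ℓ0 i (e z) * χ0 (e w)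
    rw [map_mul, ← hrep (e z), ← hrep (e w), ← map_mul]
    erw [hℓ0, hℓ0, hℓ0, hχ0, hχ0]
    rw [map_mul, lin_mul]
    rfl
  · change χ0 (e (e.symm _)) = _
    rw [RingEquiv.apply_symm_apply, hχ0, hψX, constantCoeff_X]
  · change χ0 (e (e.symm _)) = _
    rw [RingEquiv.apply_symm_apply, hχ0, hψX, constantCoeff_X]
  · change ℓ0 0 (e (e.symm _)) = _
    rw [RingEquiv.apply_symm_apply, hℓ0, hψX, lin_X, if_pos rfl]
  · change ℓ0 1 (e (e.symm _)) = _
    rw [RingEquiv.apply_symm_apply, hℓ0, hψX, lin_X, if_neg (by decide)]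
  · change ℓ0 0 (e (e.symm _)) = _
    rw [RingEquiv.apply_symm_apply, hℓ0, hψX, lin_X, if_neg (by decide)]
  · change ℓ0 1 (e (e.symm _)) = _
    rw [RingEquiv.apply_symm_apply, hℓ0, hψX, lin_X, if_pos rfl]
  · apply e.injective
    rw [map_mul, RingEquiv.apply_symm_apply, RingEquiv.apply_symm_apply, he, ← map_mul]
    exact Ideal.Quotient.eq.2 (Ideal.subset_span rfl)
  · obtain ⟨g0, g1, hg⟩ := exists_decomp (rep (e z))
    obtain ⟨t, ht⟩ := (bijective_algebraMap_cpl R).2 (constantCoeff (rep (e z)))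
    refine ⟨t, e.symm (mkN g0), e.symm (mkN g1), e.injective ?_⟩
    rw [map_add, map_add, map_mul, map_mul, he, RingEquiv.apply_symm_apply, RingEquiv.apply_symm_apply,
      RingEquiv.apply_symm_apply, RingEquiv.apply_symm_apply, ht]
    conv_lhs => rw [← hrep (e z), hg]
    simp only [mkN, map_add, map_mul]

end Groth.Agent.NodeNZD7
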